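import Groth.Agent.PerfLocal.Perfect
import Mathlib.LinearAlgebra.Trace
import Mathlib.Algebra.Homology.Homotopy
import Mathlib.Order.Interval.Finset.Basic
import Mathlib.Data.Int.Interval

/-!
# The alternating trace is an invariant of the derived category
-/

set_option autoImplicit false
set_option backward.isDefEq.respectTransparency false

universe u

open CategoryTheory Limits

attribute [local instance] HasDerivedCategory.standard

namespace Groth.Agent.TraceDer

variable {R : Type u} [CommRing R]

/-- Morphisms out of a K-projective complex that agree in `D(R)` are homotopic. -/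
theorem nonempty_homotopy {E F : DRing.Cx R} [E.IsKProjective] {f g : E ⟶ F}
    (h : DerivedCategory.Q.map f = DerivedCategory.Q.map g) : Nonempty (Homotopy f g) := by
  refine ⟨HomotopyCategory.homotopyOfEq _ _ ((CochainComplex.IsKProjective.Qh_map_bijective E _).1 ?_)⟩
  have hf := (DerivedCategory.quotientCompQhIso (ModuleCat.{u} R)).hom.naturality f
  have hg := (DerivedCategory.quotientCompQhIso (ModuleCat.{u} R)).hom.naturality g
  rw [h] at hf
  exact (cancel_mono ((DerivedCategory.quotientCompQhIso (ModuleCat.{u} R)).hom.app F)).1 (hf.trans hg.symm)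

/-- Telescoping over an interval of integers. -/
theorem sum_telescope {M : Type u} [AddCommGroup M] (F : ℤ → M) (a b : ℤ) (hab : a - 1 ≤ b) :
    ∑ i ∈ Finset.Icc a b, (F i - F (i - 1)) = F b - F (a - 1) := by
  induction b, hab using Int.le_induction with
  | base => rw [Finset.Icc_eq_empty (by omega)]; simp
  | succ n hn ih =>
    rw [show Finset.Icc a (n + 1) = insert (n + 1) (Finset.Icc a n) by
        ext x; simp only [Finset.mem_Icc, Finset.mem_insert]; omega,
      Finset.sum_insert (by simp only [Finset.mem_Icc]; omega), ih, show n + 1 - 1 = n by omega]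
    abel

/-- The alternating trace. -/
noncomputable def altTr (P : DRing.Cx R) (a b : ℤ) (f : P ⟶ P) : R :=
  ∑ i ∈ Finset.Icc a b, ((i.negOnePow : ℤˣ) : ℤ) • LinearMap.trace R (P.X i) (f.f i).hom

/-- Homotopic endomorphisms of a bounded complex of finite free modules have the same alternating trace. -/
theorem altTr_eq_of_homotopy {P : DRing.Cx R} {a b : ℤ} (hP : DRing.VanishesOutside P a b)
    (hPf : DRing.TermwiseFiniteFree P) {f g : P ⟶ P} (H : Homotopy f g) : altTr P a b f = altTr P a b g := by
  let T : ℤ → R := fun i => LinearMap.trace R (P.X i) (P.d i (i + 1) ≫ H.hom (i + 1) i).hom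
  have hcomm : ∀ i, LinearMap.trace R (P.X i) (f.f i).hom =
      T i + T (i - 1) + LinearMap.trace R (P.X i) (g.f i).hom := by
    intro i
    haveI := (hPf i).1
    haveI := (hPf i).2
    haveI := (hPf (i - 1)).1
    haveI := (hPf (i - 1)).2
    have hTi : T (i - 1) = LinearMap.trace R (P.X i) (H.hom i (i - 1) ≫ P.d (i - 1) i).hom := by
      have e : T (i - 1) = LinearMap.trace R (P.X (i - 1)) (P.d (i - 1) i ≫ H.hom i (i - 1)).hom := by
        have key : ∀ (j : ℤ), j = i →
            LinearMap.trace R (P.X (i - 1)) (P.d (i - 1) j ≫ H.hom j (i - 1)).hom =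
              LinearMap.trace R (P.X (i - 1)) (P.d (i - 1) i ≫ H.hom i (i - 1)).hom := by
          rintro j rfl; rfl
        exact key _ (by omega)
      rw [e, ModuleCat.hom_comp, ModuleCat.hom_comp]
      exact LinearMap.trace_comp_comm' _ _
    have hd : dNext i H.hom = P.d i (i + 1) ≫ H.hom (i + 1) i := dNext_eq _ (by simp)
    have hp : prevD i H.hom = H.hom i (i - 1) ≫ P.d (i - 1) i := prevD_eq _ (by simp)
    rw [hTi, H.comm i, hd, hp, ModuleCat.hom_add, ModuleCat.hom_add, map_add, map_add]
  by_cases hab : a - 1 ≤ b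
  · rw [← sub_eq_zero, altTr, altTr, ← Finset.sum_sub_distrib]
    let F : ℤ → R := fun i => ((i.negOnePow : ℤˣ) : ℤ) • T i
    rw [Finset.sum_congr rfl (g := fun i => F i - F (i - 1)) fun i _ => by
      rw [← smul_sub, hcomm i, add_sub_cancel_right]
      simp only [F, Int.negOnePow_sub, Int.negOnePow_one, mul_neg, mul_one, Units.val_neg, neg_smul, smul_add,
        sub_neg_eq_add]]
    rw [sum_telescope F a b hab]
    have z1 : T (a - 1) = 0 := by
      haveI := ModuleCat.subsingleton_of_isZero (hP (a - 1) (Or.inl (by omega)))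
      rw [show T (a - 1) = LinearMap.trace R (P.X (a - 1)) _ from rfl,
        Subsingleton.elim (P.d (a - 1) (a - 1 + 1) ≫ H.hom (a - 1 + 1) (a - 1)).hom 0, map_zero]
    have z2 : T b = 0 := by
      rw [show T b = LinearMap.trace R (P.X b) _ from rfl,
        (hP (b + 1) (Or.inr (by omega))).eq_of_tgt (P.d b (b + 1)) 0, zero_comp, ModuleCat.hom_zero, map_zero]
    simp [F, z1, z2]
  · rw [altTr, altTr, Finset.Icc_eq_empty (by omega), Finset.sum_empty, Finset.sum_empty]

/-- The alternating trace of an endomorphism of a perfect object of `D(R)` is well defined. -/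
theorem altTr_eq_of_iso (P Q : DRing.Cx R) (a b : ℤ) (hP : DRing.VanishesOutside P a b)
    (hQ : DRing.VanishesOutside Q a b) (hPf : DRing.TermwiseFiniteFree P) (hQf : DRing.TermwiseFiniteFree Q)
    (f : P ⟶ P) (g : Q ⟶ Q) (α : DRing.toD P ≅ DRing.toD Q)
    (h : α.hom ≫ DerivedCategory.Q.map g = DerivedCategory.Q.map f ≫ α.hom) :
    altTr P a b f = altTr Q a b g := by
  haveI := PerfLocal.isStrictlyLE_of_vanishesOutside hP
  haveI := PerfLocal.isStrictlyLE_of_vanishesOutside hQ
  haveI : ∀ i, Projective (P.X i) := fun i =>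
    haveI := (hPf i).2
    ModuleCat.projective_of_free (Module.Free.chooseBasis R (P.X i))
  haveI : ∀ i, Projective (Q.X i) := fun i =>
    haveI := (hQf i).2
    ModuleCat.projective_of_free (Module.Free.chooseBasis R (Q.X i))
  haveI := CochainComplex.isKProjective_of_projective P b
  haveI := CochainComplex.isKProjective_of_projective Q b
  obtain ⟨x, hx⟩ := PerfLocal.exists_lift α.hom
  obtain ⟨y, hy⟩ := PerfLocal.exists_lift α.inv
  obtain ⟨H1⟩ := nonempty_homotopy (f := f) (g := x ≫ g ≫ y)
    (by rw [Functor.map_comp, Functor.map_comp, hx, hy, ← Category.assoc, h, Category.assoc, α.hom_inv_id,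
      Category.comp_id])
  obtain ⟨H2⟩ := nonempty_homotopy (f := g) (g := (g ≫ y) ≫ x)
    (by rw [Functor.map_comp, Functor.map_comp, hx, hy, Category.assoc, α.inv_hom_id, Category.comp_id])
  rw [altTr_eq_of_homotopy hP hPf H1, altTr_eq_of_homotopy hQ hQf H2]
  refine Finset.sum_congr rfl fun i _ => ?_
  haveI := (hPf i).1
  haveI := (hPf i).2
  haveI := (hQf i).1
  haveI := (hQf i).2
  rw [HomologicalComplex.comp_f x (g ≫ y), HomologicalComplex.comp_f (g ≫ y) x, ModuleCat.hom_comp,
    ModuleCat.hom_comp]
  exact congrArg _ (LinearMap.trace_comp_comm' _ _)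

end Groth.Agent.TraceDer
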